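import Mathlib
import Groth.Agent.Lib.Helper7.PerfAWN4
import Groth.Agent.Lib.Helper7.PerfEt

/-! helper7: affineness descends along universal homeomorphisms in characteristic `p`; a morphism is
affine iff the induced morphism of perfections is. -/

namespace Groth.Agent.Helper7.AffDescPerf
open AlgebraicGeometry CategoryTheory Limits TopologicalSpace Opposite
open Groth.Agent.Helper7.SchAWN Groth.Agent.Helper7.PerfAWN Groth.Agent.Helper7.FPColim
universe u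

section twocover
variable {X : Scheme.{u}}

lemma eq_of_res_sup (S U : X.Opens) (a a' : Γ(X, S ⊔ U))
    (h1 : X.presheaf.map (homOfLE le_sup_left : S ⟶ S ⊔ U).op a =
      X.presheaf.map (homOfLE le_sup_left : S ⟶ S ⊔ U).op a')
    (h2 : X.presheaf.map (homOfLE le_sup_right : U ⟶ S ⊔ U).op a =
      X.presheaf.map (homOfLE le_sup_right : U ⟶ S ⊔ U).op a') : a = a' :=
  X.sheaf.eq_of_locally_eq₂ (homOfLE le_sup_left) (homOfLE le_sup_right) le_rfl a a' h1 h2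

lemma exists_glue_sup (S U : X.Opens) (a₁ : Γ(X, S)) (a₂ : Γ(X, U))
    (h : X.presheaf.map (homOfLE inf_le_left : S ⊓ U ⟶ S).op a₁ =
      X.presheaf.map (homOfLE inf_le_right : S ⊓ U ⟶ U).op a₂) :
    ∃ a : Γ(X, S ⊔ U), X.presheaf.map (homOfLE le_sup_left : S ⟶ S ⊔ U).op a = a₁ ∧
      X.presheaf.map (homOfLE le_sup_right : U ⟶ S ⊔ U).op a = a₂ := by
  refine ⟨(X.sheaf.objSupIsoProdEqLocus S U).inv ⟨(a₁, a₂), h⟩, ?_, ?_⟩
  · exact X.sheaf.objSupIsoProdEqLocus_inv_fst S U ⟨(a₁, a₂), h⟩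
  · exact X.sheaf.objSupIsoProdEqLocus_inv_snd S U ⟨(a₁, a₂), h⟩

end twocover

section main
variable (p : ℕ) [hp : Fact p.Prime] {X' X : Scheme.{u}} (π : X' ⟶ X)

lemma app_res {V W : X.Opens} (i : V ⟶ W) (j : π ⁻¹ᵁ V ⟶ π ⁻¹ᵁ W) (a : Γ(X, W)) :
    π.app V (X.presheaf.map i.op a) = X'.presheaf.map j.op (π.app W a) := by
  have h := π.naturality i.op
  have h2 : j = (Opens.map π.base).map i := Subsingleton.elim _ _
  rw [h2, ← CommRingCat.comp_apply, ← CommRingCat.comp_apply]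
  exact congrArg (fun f => f a) h

/-- kernel elements are killed by `p`-power exponents -/
def PK (S : X.Opens) : Prop := ∀ a : Γ(X, S), π.app S a = 0 → ∃ m : ℕ, a ^ p ^ m = 0

lemma pk_affine (hπ : FlatMor.IsUnivHomeo π) (U : X.affineOpens) : PK p π U.1 := by
  intro a ha
  have haff := UHSch.isAffineHom_of_isUnivHomeo π hπ
  have hU' : IsAffineOpen (π ⁻¹ᵁ U.1) := U.2.preimage π
  have huh := isUnivHomeo_specMap_app π hπ U.2 hU'
  have hker := ((uh_iff_crit (π.app U.1).hom).mp huh).2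
  have hnil : IsNilpotent a := hker ha
  obtain ⟨k, hk⟩ := hnil
  exact ⟨k, pow_eq_zero_of_le (Nat.lt_pow_self hp.out.one_lt).le hk⟩

omit hp in
lemma pk_bot : PK p π (⊥ : X.Opens) := fun _ _ => ⟨0, Subsingleton.elim _ _⟩

lemma pk_sup (S U : X.Opens) (hS : PK p π S) (hU : PK p π U) : PK p π (S ⊔ U) := by
  intro a ha
  obtain ⟨m₁, h₁⟩ := hS (X.presheaf.map (homOfLE le_sup_left : S ⟶ S ⊔ U).op a) (by
    rw [app_res π _ (homOfLE (π.preimage_mono le_sup_left)), ha, map_zero])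
  obtain ⟨m₂, h₂⟩ := hU (X.presheaf.map (homOfLE le_sup_right : U ⟶ S ⊔ U).op a) (by
    rw [app_res π _ (homOfLE (π.preimage_mono le_sup_right)), ha, map_zero])
  refine ⟨m₁ + m₂, ?_⟩
  apply eq_of_res_sup
  · rw [map_pow, map_zero, pow_add, pow_mul, h₁, zero_pow (pow_pos hp.out.pos _).ne']
  · rw [map_pow, map_zero, pow_add, mul_comm, pow_mul, h₂, zero_pow (pow_pos hp.out.pos _).ne']

lemma pk_of_isCompact (hπ : FlatMor.IsUnivHomeo π) (S : X.Opens) (hS : IsCompact (S : Set X)) :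
    PK p π S := by
  refine compact_open_induction_on (P := PK p π) S hS (pk_bot p π) ?_
  intro S _ U ih
  exact pk_sup p π S U.1 ih (pk_affine p π hπ U)


include hp in
lemma sub_pow_pow {R : Type*} [CommRing R] (hR : (p : R) = 0) (x y : R) (m : ℕ) :
    (x - y) ^ p ^ m = x ^ p ^ m - y ^ p ^ m := by
  rcases subsingleton_or_nontrivial R with h | h
  · exact Subsingleton.elim _ _
  · have : CharP R p := (CharP.charP_iff_prime_eq_zero hp.out).2 hR
    exact sub_pow_char_pow x y m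

/-- restriction of a global section of `X'` to the preimage of an open of `X` -/
noncomputable def bres (b : Γ(X', ⊤)) (S : X.Opens) : Γ(X', π ⁻¹ᵁ S) :=
  X'.presheaf.map (homOfLE le_top : π ⁻¹ᵁ S ⟶ ⊤).op b

lemma bres_res (b : Γ(X', ⊤)) {V W : X.Opens} (j : π ⁻¹ᵁ V ⟶ π ⁻¹ᵁ W) :
    X'.presheaf.map j.op (bres π b W) = bres π b V := by
  unfold bres
  rw [← CommRingCat.comp_apply, ← X'.presheaf.map_comp, ← op_comp]
  rfl

def PL (b : Γ(X', ⊤)) (S : X.Opens) : Prop :=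
  ∃ (n : ℕ) (a : Γ(X, S)), π.app S a = (bres π b S) ^ p ^ n

lemma pl_affine (hπ : FlatMor.IsUnivHomeo π) (hX' : ∀ V : X'.Opens, (p : Γ(X', V)) = 0)
    (b : Γ(X', ⊤)) (U : X.affineOpens) : PL p π b U.1 := by
  have haff := UHSch.isAffineHom_of_isUnivHomeo π hπ
  have hU' : IsAffineOpen (π ⁻¹ᵁ U.1) := U.2.preimage π
  have huh := isUnivHomeo_specMap_app π hπ U.2 hU'
  obtain ⟨n, a, h⟩ := exists_pow_mem_of_uh p hp.out (π.app U.1).hom huh (hX' _) (bres π b U.1)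
  exact ⟨n, a, h.symm⟩

omit hp in
lemma pl_bot (b : Γ(X', ⊤)) : PL p π b (⊥ : X.Opens) := by
  have : Subsingleton Γ(X', π ⁻¹ᵁ ⊥) := inferInstanceAs (Subsingleton Γ(X', ⊥))
  exact ⟨0, 0, Subsingleton.elim _ _⟩

lemma pl_sup (hpX : ∀ V : X.Opens, (p : Γ(X, V)) = 0) (b : Γ(X', ⊤)) (S U : X.Opens)
    (hSU : PK p π (S ⊓ U)) (hS : PL p π b S) (hU : PL p π b U) : PL p π b (S ⊔ U) := by
  obtain ⟨n₁, a₁, h₁⟩ := hS
  obtain ⟨n₂, a₂, h₂⟩ := hU
  have e₁ : π.app S (a₁ ^ p ^ n₂) = (bres π b S) ^ p ^ (n₁ + n₂) := by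
    rw [map_pow, h₁, ← pow_mul, ← pow_add]
  have e₂ : π.app U (a₂ ^ p ^ n₁) = (bres π b U) ^ p ^ (n₁ + n₂) := by
    rw [map_pow, h₂, ← pow_mul, ← pow_add, add_comm]
  obtain ⟨m, hm⟩ := hSU (X.presheaf.map (homOfLE inf_le_left : S ⊓ U ⟶ S).op (a₁ ^ p ^ n₂) -
      X.presheaf.map (homOfLE inf_le_right : S ⊓ U ⟶ U).op (a₂ ^ p ^ n₁)) (by
    rw [map_sub, app_res π _ (homOfLE (π.preimage_mono inf_le_left)), e₁,
      app_res π _ (homOfLE (π.preimage_mono inf_le_right)), e₂, map_pow, map_pow, bres_res,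
      bres_res, sub_self])
  rw [sub_pow_pow p (hpX _), sub_eq_zero, ← map_pow, ← map_pow] at hm
  obtain ⟨a, ha₁, ha₂⟩ := exists_glue_sup S U _ _ hm
  refine ⟨n₁ + n₂ + m, a, ?_⟩
  refine X'.sheaf.eq_of_locally_eq₂ (homOfLE (π.preimage_mono le_sup_left))
    (homOfLE (π.preimage_mono le_sup_right)) (fun x hx => hx) _ _ ?_ ?_
  · show X'.presheaf.map _ (π.app (S ⊔ U) a) = X'.presheaf.map _ (bres π b (S ⊔ U) ^ p ^ (n₁ + n₂ + m))
    rw [← app_res π (homOfLE le_sup_left), ha₁, map_pow, e₁, map_pow, bres_res, ← pow_mul,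
      ← pow_add]
  · show X'.presheaf.map _ (π.app (S ⊔ U) a) = X'.presheaf.map _ (bres π b (S ⊔ U) ^ p ^ (n₁ + n₂ + m))
    rw [← app_res π (homOfLE le_sup_right), ha₂, map_pow, e₂, map_pow, bres_res, ← pow_mul,
      ← pow_add]


lemma pl_of_isCompact [QuasiSeparatedSpace X] (hπ : FlatMor.IsUnivHomeo π)
    (hX' : ∀ V : X'.Opens, (p : Γ(X', V)) = 0) (hpX : ∀ V : X.Opens, (p : Γ(X, V)) = 0)
    (b : Γ(X', ⊤)) (S : X.Opens) (hS : IsCompact (S : Set X)) : PL p π b S := by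
  refine compact_open_induction_on (P := PL p π b) S hS (pl_bot p π b) ?_
  intro S hS U ih
  have hc : IsCompact ((S ⊓ U.1 : X.Opens) : Set X) :=
    QuasiSeparatedSpace.inter_isCompact _ _ S.2 hS U.1.2 U.2.isCompact
  exact pl_sup p π hpX b S U.1 (pk_of_isCompact p π hπ _ hc) ih (pl_affine p π hπ hX' b U)

theorem isAffine_of_isUnivHomeo (hπ : FlatMor.IsUnivHomeo π) [IsAffine X']
    (hX' : ∀ V : X'.Opens, (p : Γ(X', V)) = 0) (hpX : ∀ V : X.Opens, (p : Γ(X, V)) = 0) :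
    IsAffine X := by
  have hhom := Groth.Agent.Helper9.UH.isHomeomorph_of_isUnivHomeo π hπ
  have hcX : CompactSpace X := by
    constructor
    rw [← hhom.surjective.range_eq]
    exact isCompact_range π.continuous
  have hqsX : QuasiSeparatedSpace X := by
    let e := hhom.homeomorph
    exact e.symm.isOpenEmbedding.quasiSeparatedSpace
  have hk := pk_of_isCompact p π hπ ⊤ (by simpa using isCompact_univ)
  have hl := fun b => pl_of_isCompact p π hπ hX' hpX b ⊤ (by simpa using isCompact_univ)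
  have hbres : ∀ b : Γ(X', ⊤), bres π b ⊤ = b := by
    intro b
    show X'.presheaf.map (𝟙 _) b = b
    rw [X'.presheaf.map_id]
    rfl
  have hrad : IsPRadical π.appTop.hom p := by
    constructor
    · intro b
      obtain ⟨n, a, h⟩ := hl b
      rw [hbres] at h
      exact ⟨n, a, h⟩
    · intro a ha
      rw [pNilradical_eq_nilradical hp.out.one_lt]
      obtain ⟨m, hm⟩ := hk a ha
      exact ⟨_, hm⟩
  have huh : FlatMor.IsUnivHomeo (Spec.map π.appTop) :=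
    PerfEt.uh_of_isPRadical p π.appTop.hom (hX' ⊤) hrad
  have h1 : FlatMor.IsUnivHomeo (π ≫ X.toSpecΓ) := by
    rw [Scheme.toSpecΓ_naturality]
    exact (MorphismProperty.cancel_left_of_respectsIso (P := FlatMor.IsUnivHomeo) _ _).mpr huh
  have h2 : FlatMor.IsUnivHomeo X.toSpecΓ := UHSch.isUnivHomeo_of_comp_left π X.toSpecΓ h1 hπ
  have h3 : IsAffineHom X.toSpecΓ := UHSch.isAffineHom_of_isUnivHomeo _ h2
  exact isAffine_of_isAffineHom X.toSpecΓ

end main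

section perf
variable (p : ℕ) [Fact p.Prime] {X Y XP YP : Scheme.{u}}
    [FrobSch.IsCharP X p] [FrobSch.IsCharP Y p] [FrobSch.IsCharP XP p] [FrobSch.IsCharP YP p]

theorem main14915 (πX : XP ⟶ X) (πY : YP ⟶ Y) (hX : FrobSch.IsPerfection πX p)
    (hY : FrobSch.IsPerfection πY p) (f : X ⟶ Y) (fP : XP ⟶ YP) (w : fP ≫ πY = πX ≫ f) :
    IsAffineHom f ↔ IsAffineHom fP := by
  have h1 := isUnivHomeo_of_isPerfection p πX hX
  have h2 := isUnivHomeo_of_isPerfection p πY hY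
  have a1 := UHSch.isAffineHom_of_isUnivHomeo _ h1
  have a2 := UHSch.isAffineHom_of_isUnivHomeo _ h2
  constructor
  · intro hf
    have : IsAffineHom (fP ≫ πY) := by rw [w]; infer_instance
    exact IsAffineHom.of_comp fP πY
  · intro hfP
    rw [isAffineHom_iff]
    intro U hU
    have hV' : IsAffineOpen (πX ⁻¹ᵁ (f ⁻¹ᵁ U)) := by
      have e : πX ⁻¹ᵁ (f ⁻¹ᵁ U) = fP ⁻¹ᵁ (πY ⁻¹ᵁ U) := by
        rw [← Scheme.Hom.comp_preimage, ← Scheme.Hom.comp_preimage, w]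
      rw [e]
      exact (hU.preimage πY).preimage fP
    have huh := UHSch.isUnivHomeo_morphismRestrict πX h1 (f ⁻¹ᵁ U)
    have haff : IsAffine (πX ⁻¹ᵁ (f ⁻¹ᵁ U)).toScheme := hV'
    have c1 : FrobSch.IsCharP (πX ⁻¹ᵁ (f ⁻¹ᵁ U)).toScheme p :=
      FrobSch.IsCharP.of_hom (πX ⁻¹ᵁ (f ⁻¹ᵁ U)).ι p
    have c2 : FrobSch.IsCharP (f ⁻¹ᵁ U).toScheme p := FrobSch.IsCharP.of_hom (f ⁻¹ᵁ U).ι p
    exact isAffine_of_isUnivHomeo p (πX ∣_ (f ⁻¹ᵁ U)) huh
      (fun V => FrobSch.natCast_eq_zero_app _ p V) (fun V => FrobSch.natCast_eq_zero_app _ p V)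

end perf
end Groth.Agent.Helper7.AffDescPerf
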